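import Mathlib

/-! Elementary algebra of ternary quadratic forms and linear forms. -/

set_option autoImplicit false
set_option linter.style.haveILetI false
set_option maxHeartbeats 1000000

universe u

open MvPolynomial Matrix

noncomputable section

namespace Groth.Agent.Conic

variable {k : Type u} [Field k]

/-- The linear form with coefficient vector `a`. -/
def lin (a : Fin 3 → k) : MvPolynomial (Fin 3) k := ∑ i : Fin 3, a i • X i

/-- The quadratic form of a matrix. -/
def quad (Q : Matrix (Fin 3) (Fin 3) k) : MvPolynomial (Fin 3) k :=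
  ∑ i : Fin 3, ∑ j : Fin 3, Q i j • (X i * X j)

theorem pderiv_lin (a : Fin 3 → k) (i : Fin 3) : pderiv i (lin a) = C (a i) := by
  fin_cases i <;>
    simp [lin, Fin.sum_univ_three, smul_eq_C_mul, pderiv_X]

theorem isHomogeneous_lin (a : Fin 3 → k) : (lin a).IsHomogeneous 1 := by
  refine IsHomogeneous.sum _ _ _ fun i _ => ?_
  rw [smul_eq_C_mul]
  exact (isHomogeneous_X k i).C_mul _

theorem eval_lin (a u : Fin 3 → k) : eval u (lin a) = a ⬝ᵥ u := by
  simp [lin, dotProduct, smul_eq_C_mul]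

theorem exists_lin {l : MvPolynomial (Fin 3) k} (hl : l.IsHomogeneous 1) : ∃ a, l = lin a := by
  have h : l ∈ Submodule.span k (Set.range (X : Fin 3 → MvPolynomial (Fin 3) k)) := by
    rw [← homogeneousSubmodule_one_eq_span_X]
    exact hl
  obtain ⟨a, ha⟩ := (Submodule.mem_span_range_iff_exists_fun k).1 h
  exact ⟨a, ha.symm⟩

theorem lin_eq_zero_iff (a : Fin 3 → k) : lin a = 0 ↔ a = 0 := by
  refine ⟨fun h => funext fun i => ?_, fun h => by simp [h, lin]⟩
  have := pderiv_lin a i
  rw [h, map_zero] at this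
  simpa using this.symm

theorem not_isUnit_lin (a : Fin 3 → k) : ¬ IsUnit (lin a) := by
  intro h
  have := h.map (eval (0 : Fin 3 → k))
  rw [eval_lin] at this
  simp at this

theorem eval_pderiv_quad {Q : Matrix (Fin 3) (Fin 3) k} (hQ : Q.IsSymm) (u : Fin 3 → k) (i : Fin 3) :
    eval u (pderiv i (quad Q)) = 2 * (Q *ᵥ u) i := by
  have h01 := hQ.apply 0 1
  have h02 := hQ.apply 0 2
  have h12 := hQ.apply 1 2
  fin_cases i <;>
    simp [quad, Fin.sum_univ_three, pderiv_X, smul_eq_C_mul, mulVec, dotProduct, h01, h02, h12] <;> ring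

theorem quad_isHomogeneous (Q : Matrix (Fin 3) (Fin 3) k) : (quad Q).IsHomogeneous 2 := by
  refine IsHomogeneous.sum _ _ _ fun i _ => IsHomogeneous.sum _ _ _ fun j _ => ?_
  rw [smul_eq_C_mul]
  exact ((isHomogeneous_X k i).mul (isHomogeneous_X k j)).C_mul _

theorem two_mul_of_eq {Q : Matrix (Fin 3) (Fin 3) k} (hQ : Q.IsSymm) {a b : Fin 3 → k}
    (h : quad Q = lin a * lin b) (u : Fin 3 → k) (i : Fin 3) :
    2 * (Q *ᵥ u) i = a i * (b ⬝ᵥ u) + b i * (a ⬝ᵥ u) := by
  rw [← eval_pderiv_quad hQ u i, h, pderiv_mul, pderiv_lin, pderiv_lin]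
  simp [eval_lin]
  ring

theorem two_ne [CharZero k] : (2 : k) ≠ 0 := two_ne_zero

theorem det_eq_zero_of_eq [CharZero k] {Q : Matrix (Fin 3) (Fin 3) k} (hQ : Q.IsSymm) {a b : Fin 3 → k}
    (h : quad Q = lin a * lin b) : Q.det = 0 := by
  let φ : (Fin 3 → k) →ₗ[k] (Fin 2 → k) := Matrix.mulVecLin (Matrix.of ![a, b])
  have hker : φ.ker ≠ ⊥ := LinearMap.ker_ne_bot_of_finrank_lt (by simp)
  obtain ⟨u, hu, hu0⟩ := Submodule.exists_mem_ne_zero_of_ne_bot hker
  refine exists_mulVec_eq_zero_iff.1 ⟨u, hu0, funext fun i => ?_⟩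
  have h0 : a ⬝ᵥ u = 0 := congrFun (LinearMap.mem_ker.1 hu) 0
  have h1 : b ⬝ᵥ u = 0 := congrFun (LinearMap.mem_ker.1 hu) 1
  have := two_mul_of_eq hQ h u i
  rw [h0, h1, mul_zero, mul_zero, add_zero] at this
  exact (mul_eq_zero.1 this).resolve_left two_ne

theorem rank_eq_two_of_eq [CharZero k] {Q : Matrix (Fin 3) (Fin 3) k} (hQ : Q.IsSymm) {a b : Fin 3 → k}
    (hab : LinearIndependent k ![a, b]) (h : quad Q = lin a * lin b) : Q.rank = 2 := by
  let φ : (Fin 3 → k) →ₗ[k] (Fin 2 → k) := Matrix.mulVecLin (Matrix.of ![a, b])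
  have hM : (Matrix.of ![a, b]).rank = 2 := by
    have := LinearIndependent.rank_matrix (M := Matrix.of ![a, b]) hab
    simpa using this
  have hsurj : φ.range = ⊤ := Submodule.eq_top_of_finrank_eq (by
    rw [Module.finrank_fin_fun]; exact hM)
  have hrange : Q.mulVecLin.range = Submodule.span k (Set.range ![a, b]) := by
    apply le_antisymm
    · rintro _ ⟨u, rfl⟩
      have he : Q.mulVecLin u = (2 : k)⁻¹ • ((b ⬝ᵥ u) • a + (a ⬝ᵥ u) • b) := by
        funext i
        simp only [mulVecLin_apply, Pi.smul_apply, Pi.add_apply, smul_eq_mul]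
        rw [eq_inv_mul_iff_mul_eq₀ two_ne, two_mul_of_eq hQ h u i]
        ring
      rw [he]
      refine Submodule.smul_mem _ _ (Submodule.add_mem _ (Submodule.smul_mem _ _ ?_) (Submodule.smul_mem _ _ ?_))
      · exact Submodule.subset_span ⟨0, rfl⟩
      · exact Submodule.subset_span ⟨1, rfl⟩
    · rw [Submodule.span_le]
      rintro _ ⟨m, rfl⟩
      obtain ⟨u, hu⟩ := LinearMap.range_eq_top.1 hsurj (fun p => if p = m then 0 else 2)
      have h0 : a ⬝ᵥ u = if (0 : Fin 2) = m then 0 else 2 := congrFun hu 0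
      have h1 : b ⬝ᵥ u = if (1 : Fin 2) = m then 0 else 2 := congrFun hu 1
      refine ⟨u, funext fun i => mul_left_cancel₀ (two_ne (k := k)) ?_⟩
      simp only [mulVecLin_apply]
      rw [two_mul_of_eq hQ h u i, h0, h1]
      fin_cases m <;> simp [mul_comm]
  rw [Matrix.rank, hrange, finrank_span_eq_card hab]
  simp

theorem rank_eq_one_of_eq [CharZero k] {Q : Matrix (Fin 3) (Fin 3) k} (hQ : Q.IsSymm) (hQ0 : Q ≠ 0)
    {a : Fin 3 → k} (h : quad Q = lin a * lin a) : Q.rank = 1 := by
  have he : Q = vecMulVec a a := by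
    ext i j
    have := two_mul_of_eq hQ h (Pi.single j 1) i
    simp [mulVec_single] at this
    refine mul_left_cancel₀ (two_ne (k := k)) ?_
    rw [vecMulVec_apply, this]; ring
  have hle : Q.rank ≤ 1 := he ▸ rank_vecMulVec_le a a
  have hne : Q.rank ≠ 0 := by
    intro h0
    apply hQ0
    have : Q.mulVecLin.range = ⊥ := Submodule.finrank_eq_zero.1 h0
    rw [LinearMap.range_eq_bot] at this
    ext i j
    have := congrFun (LinearMap.congr_fun this (Pi.single j 1)) i
    simpa [mulVec_single] using this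
  omega

/-- A symmetric matrix is congruent to a diagonal one. -/
theorem exists_diag [CharZero k] {Q : Matrix (Fin 3) (Fin 3) k} (hQ : Q.IsSymm) :
    ∃ (R : Matrix (Fin 3) (Fin 3) k) (d : Fin 3 → k), IsUnit R.det ∧ Q = Rᵀ * diagonal d * R := by
  haveI : Invertible (2 : k) := invertibleOfNonzero two_ne
  have hB : LinearMap.IsSymm (Matrix.toBilin' Q) := ⟨fun x y => by
    simp only [Matrix.toBilin'_apply', RingHom.id_apply]
    rw [dotProduct_mulVec, dotProduct_comm, ← mulVec_transpose, hQ.eq]⟩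
  obtain ⟨v₀, hv₀⟩ := LinearMap.BilinForm.exists_orthogonal_basis hB
  let v := v₀.reindex (finCongr (Module.finrank_fin_fun k))
  have hv : ∀ i j, i ≠ j → Matrix.toBilin' Q (v i) (v j) = 0 := fun i j hij => by
    simp only [v, Module.Basis.reindex_apply]
    exact hv₀ (fun he => hij (Equiv.injective _ he))
  let P : Matrix (Fin 3) (Fin 3) k := Matrix.of fun i l => v l i
  have hP : IsUnit P.det := by
    rw [← Matrix.isUnit_iff_isUnit_det, ← Matrix.linearIndependent_cols_iff_isUnit]
    exact v.linearIndependent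
  have hd : Pᵀ * Q * P = diagonal (fun l => Matrix.toBilin' Q (v l) (v l)) := by
    ext i j
    have he : (Pᵀ * Q * P) i j = Matrix.toBilin' Q (v i) (v j) := by
      simp [Matrix.toBilin'_apply', Matrix.mul_apply, mulVec, dotProduct, P, Fin.sum_univ_three]
      ring
    rw [he]
    by_cases hij : i = j
    · subst hij; simp
    · rw [diagonal_apply_ne _ hij, hv i j hij]
  refine ⟨P⁻¹, fun l => Matrix.toBilin' Q (v l) (v l), ?_, ?_⟩
  · exact Matrix.isUnit_nonsing_inv_det _ hP
  · rw [← hd, Matrix.transpose_nonsing_inv]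
    have h' : IsUnit Pᵀ.det := by rwa [det_transpose]
    simp only [← mul_assoc]
    rw [Matrix.nonsing_inv_mul _ h', one_mul, Matrix.mul_assoc, Matrix.mul_nonsing_inv _ hP, mul_one]

theorem quad_diag (R : Matrix (Fin 3) (Fin 3) k) (d : Fin 3 → k) :
    quad (Rᵀ * diagonal d * R) = ∑ l, C (d l) * lin (R l) ^ 2 := by
  simp [quad, lin, Fin.sum_univ_three, Matrix.mul_apply, diagonal, smul_eq_C_mul]
  ring

theorem rank_diag {R : Matrix (Fin 3) (Fin 3) k} (hR : IsUnit R.det) (d : Fin 3 → k) [DecidableEq k] :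
    (Rᵀ * diagonal d * R).rank = (Finset.univ.filter fun l => d l ≠ 0).card := by
  rw [rank_mul_eq_left_of_isUnit_det R _ hR,
    rank_mul_eq_right_of_isUnit_det Rᵀ _ (by rwa [det_transpose]), rank_diagonal, Fintype.card_subtype]

theorem exists_of_rank_two [IsAlgClosed k] [CharZero k] {Q : Matrix (Fin 3) (Fin 3) k} (hQ : Q.IsSymm)
    (h : Q.rank = 2) : ∃ a b : Fin 3 → k, LinearIndependent k ![a, b] ∧ quad Q = lin a * lin b := by
  classical
  obtain ⟨R, d, hR, rfl⟩ := exists_diag hQ
  rw [rank_diag hR] at h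
  obtain ⟨p, q, hpq, hs⟩ := Finset.card_eq_two.1 h
  have hp : d p ≠ 0 := (Finset.mem_filter.1 (hs.symm ▸ Finset.mem_insert_self p {q} : p ∈ Finset.univ.filter fun l => d l ≠ 0)).2
  have hq : d q ≠ 0 := (Finset.mem_filter.1 (hs.symm ▸ Finset.mem_insert_of_mem (Finset.mem_singleton_self q) : q ∈ Finset.univ.filter fun l => d l ≠ 0)).2
  obtain ⟨s, hs'⟩ := IsAlgClosed.exists_eq_mul_self (d p)
  obtain ⟨t, ht⟩ := IsAlgClosed.exists_eq_mul_self (-d q)
  have hs0 : s ≠ 0 := fun h0 => hp (by rw [hs', h0, mul_zero])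
  have ht0 : t ≠ 0 := fun h0 => hq (by rw [← neg_eq_zero, ht, h0, mul_zero])
  have hli : LinearIndependent k ![R p, R q] := by
    have : LinearIndependent k R.row := Matrix.linearIndependent_rows_iff_isUnit.2 ((Matrix.isUnit_iff_isUnit_det _).2 hR)
    have h2 := this.comp ![p, q] (by
      intro x y hxy
      fin_cases x <;> fin_cases y <;> simp_all)
    convert h2 using 1
    funext x; fin_cases x <;> rfl
  refine ⟨s • R p + t • R q, s • R p - t • R q, ?_, ?_⟩
  · rw [LinearIndependent.pair_iff]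
    intro x y hxy
    have := LinearIndependent.pair_iff.1 hli ((x + y) * s) ((x - y) * t) (by
      rw [← hxy]; module)
    have h1 : x + y = 0 := (mul_eq_zero.1 this.1).resolve_right hs0
    have h2 : x - y = 0 := (mul_eq_zero.1 this.2).resolve_right ht0
    have hx : x = 0 := by
      have : (2 : k) * x = 0 := by rw [two_mul, ← add_zero (0 : k)]; nth_rw 1 [← h1]; rw [← h2]; ring
      exact (mul_eq_zero.1 this).resolve_left two_ne
    exact ⟨hx, by simpa [hx] using h1⟩
  · rw [quad_diag, ← Finset.sum_subset (Finset.subset_univ (Finset.univ.filter fun l => d l ≠ 0))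
      (fun l _ hl => by simp [show d l = 0 by simpa using hl]), hs, Finset.sum_pair hpq]
    have hq' : d q = -(t * t) := by rw [← ht, neg_neg]
    rw [hs', hq']
    simp [lin, Fin.sum_univ_three, smul_eq_C_mul]
    ring

theorem exists_of_rank_one [IsAlgClosed k] [CharZero k] {Q : Matrix (Fin 3) (Fin 3) k} (hQ : Q.IsSymm)
    (h : Q.rank = 1) : ∃ a : Fin 3 → k, quad Q = lin a * lin a := by
  classical
  obtain ⟨R, d, hR, rfl⟩ := exists_diag hQ
  rw [rank_diag hR] at h
  obtain ⟨p, hs⟩ := Finset.card_eq_one.1 h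
  obtain ⟨s, hs'⟩ := IsAlgClosed.exists_eq_mul_self (d p)
  refine ⟨s • R p, ?_⟩
  rw [quad_diag, ← Finset.sum_subset (Finset.subset_univ (Finset.univ.filter fun l => d l ≠ 0))
      (fun l _ hl => by simp [show d l = 0 by simpa using hl]), hs, Finset.sum_singleton, hs']
  simp [lin, Fin.sum_univ_three, smul_eq_C_mul]
  ring

theorem det_ne_zero_of_irreducible [IsAlgClosed k] [CharZero k] {Q : Matrix (Fin 3) (Fin 3) k} (hQ : Q.IsSymm)
    (h : Irreducible (quad Q)) : Q.det ≠ 0 := by
  classical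
  intro h0
  have key : Q.rank = 0 ∨ Q.rank = 1 ∨ Q.rank = 2 := by
    have hlt : Q.rank ≤ 3 := by simpa using Q.rank_le_card_width
    have hne : Q.rank ≠ 3 := by
      intro h3
      obtain ⟨u, hu, hu0⟩ := exists_mulVec_eq_zero_iff.2 h0
      have hr : Q.mulVecLin.range = ⊤ := Submodule.eq_top_of_finrank_eq (by
        rw [Module.finrank_fin_fun]; exact h3)
      exact hu (LinearMap.ker_eq_bot'.1
        (LinearMap.ker_eq_bot_iff_range_eq_top.2 hr) u hu0)
    omega
  rcases key with hr | hr | hr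
  · apply h.ne_zero
    have : Q.mulVecLin.range = ⊥ := Submodule.finrank_eq_zero.1 hr
    rw [LinearMap.range_eq_bot] at this
    have hQ0 : Q = 0 := by
      ext i j
      have := congrFun (LinearMap.congr_fun this (Pi.single j 1)) i
      simpa [mulVec_single] using this
    simp [hQ0, quad]
  · obtain ⟨a, ha⟩ := exists_of_rank_one hQ hr
    exact (h.isUnit_or_isUnit ha).elim (not_isUnit_lin a) (not_isUnit_lin a)
  · obtain ⟨a, b, -, hab⟩ := exists_of_rank_two hQ hr
    exact (h.isUnit_or_isUnit hab).elim (not_isUnit_lin a) (not_isUnit_lin b)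

/-- A factorization of a form of degree two into two non-units is into linear forms. -/
theorem lin_factors {f g h : MvPolynomial (Fin 3) k} (hf : f.IsHomogeneous 2) (hf0 : f ≠ 0)
    (he : f = g * h) (hg : ¬ IsUnit g) (hh : ¬ IsUnit h) : ∃ a b, f = lin a * lin b := by
  have hg0 : g ≠ 0 := fun h0 => hf0 (by rw [he, h0, zero_mul])
  have hh0 : h ≠ 0 := fun h0 => hf0 (by rw [he, h0, mul_zero])
  have hd : g.totalDegree + h.totalDegree = 2 := by
    rw [← totalDegree_mul_of_isDomain hg0 hh0, ← he, hf.totalDegree hf0]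
  have unit : ∀ p : MvPolynomial (Fin 3) k, p ≠ 0 → p.totalDegree = 0 → IsUnit p := fun p hp hd0 => by
    rw [totalDegree_eq_zero_iff_eq_C] at hd0
    rw [hd0] at hp ⊢
    exact (IsUnit.mk0 _ (by simpa using hp)).map C
  have hg1 : g.totalDegree = 1 := by
    have h1 : g.totalDegree ≠ 0 := fun e => hg (unit g hg0 e)
    have h2 : h.totalDegree ≠ 0 := fun e => hh (unit h hh0 e)
    omega
  have hh1 : h.totalDegree = 1 := by omega
  have split : ∀ p : MvPolynomial (Fin 3) k, p.totalDegree = 1 → ∃ (c : k) (a : Fin 3 → k), p = C c + lin a := fun p hp => by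
    obtain ⟨a, ha⟩ := exists_lin (homogeneousComponent_isHomogeneous 1 p)
    refine ⟨coeff 0 p, a, ?_⟩
    have := sum_homogeneousComponent (φ := p)
    rw [hp, Finset.sum_range_succ, Finset.sum_range_one, homogeneousComponent_zero, ha] at this
    exact this.symm
  obtain ⟨c, a, rfl⟩ := split g hg1
  obtain ⟨e, b, rfl⟩ := split h hh1
  refine ⟨a, b, ?_⟩
  have key : f = C (c * e) + (C c * lin b + C e * lin a) + lin a * lin b := by rw [he, map_mul]; ring
  have := congrArg (homogeneousComponent 2) key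
  rw [map_add, map_add, homogeneousComponent_of_mem hf,
    homogeneousComponent_of_mem (isHomogeneous_C _ _),
    homogeneousComponent_of_mem (((isHomogeneous_lin b).C_mul c).add ((isHomogeneous_lin a).C_mul e)),
    homogeneousComponent_of_mem ((isHomogeneous_lin a).mul (isHomogeneous_lin b))] at this
  simpa using this

end Groth.Agent.Conic
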