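import Groth.Agent.Conic.Basic

/-! `2 × 2` determinants of linear forms. -/

set_option autoImplicit false
set_option linter.style.haveILetI false
set_option maxHeartbeats 1000000

universe u

open MvPolynomial Matrix

noncomputable section

namespace Groth.Agent.Conic

variable {k : Type u} [Field k]

/-- A pencil of singular `2 × 2` matrices has a common kernel or cokernel. -/
theorem common_kernel {A B : Matrix (Fin 2) (Fin 2) k} (hA : A.det = 0) (hB : B.det = 0)
    (hAB : (A + B).det = 0) :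
    (∃ c : Fin 2 → k, c ≠ 0 ∧ A *ᵥ c = 0 ∧ B *ᵥ c = 0) ∨ (∃ r : Fin 2 → k, r ≠ 0 ∧ r ᵥ* A = 0 ∧ r ᵥ* B = 0) := by
  by_cases hA0 : A = 0
  · obtain ⟨c, hc, hBc⟩ := exists_mulVec_eq_zero_iff.2 hB
    exact Or.inl ⟨c, hc, by simp [hA0], hBc⟩
  rw [det_fin_two] at hA hB hAB
  simp only [Matrix.add_apply] at hAB
  have T : A 1 1 * B 0 0 - A 0 1 * B 1 0 - A 1 0 * B 0 1 + A 0 0 * B 1 1 = 0 := by
    linear_combination hAB - hA - hB
  obtain ⟨c, r, hc, hr, hAc, hrA, hrc⟩ : ∃ c r : Fin 2 → k, c ≠ 0 ∧ r ≠ 0 ∧ A *ᵥ c = 0 ∧ r ᵥ* A = 0 ∧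
      r ⬝ᵥ (B *ᵥ c) = 0 := by
    by_cases h11 : A 1 1 ≠ 0
    · refine ⟨![A 1 1, -A 1 0], ![A 1 1, -A 0 1], fun e => h11 (congrFun e 0), fun e => h11 (congrFun e 0), ?_, ?_, ?_⟩
      · funext i; fin_cases i <;> simp [mulVec, dotProduct, Fin.sum_univ_two] <;> first | linear_combination hA | ring
      · funext i; fin_cases i <;> simp [vecMul, dotProduct, Fin.sum_univ_two] <;> first | linear_combination hA | ring
      · simp [mulVec, dotProduct, Fin.sum_univ_two]
        linear_combination A 1 1 * T - B 1 1 * hA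
    by_cases h00 : A 0 0 ≠ 0
    · refine ⟨![-A 0 1, A 0 0], ![-A 1 0, A 0 0], fun e => h00 (congrFun e 1), fun e => h00 (congrFun e 1), ?_, ?_, ?_⟩
      · funext i; fin_cases i <;> simp [mulVec, dotProduct, Fin.sum_univ_two] <;> first | linear_combination hA | ring
      · funext i; fin_cases i <;> simp [vecMul, dotProduct, Fin.sum_univ_two] <;> first | linear_combination hA | ring
      · simp [mulVec, dotProduct, Fin.sum_univ_two]
        linear_combination A 0 0 * T - B 0 0 * hA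
    push Not at h11 h00
    by_cases h01 : A 0 1 ≠ 0
    · refine ⟨![-A 0 1, A 0 0], ![A 1 1, -A 0 1], fun e => h01 (neg_eq_zero.1 (congrFun e 0)),
        fun e => h01 (neg_eq_zero.1 (congrFun e 1)), ?_, ?_, ?_⟩
      · funext i; fin_cases i <;> simp [mulVec, dotProduct, Fin.sum_univ_two] <;> first | linear_combination hA | ring
      · funext i; fin_cases i <;> simp [vecMul, dotProduct, Fin.sum_univ_two] <;> first | linear_combination hA | ring
      · simp [mulVec, dotProduct, Fin.sum_univ_two]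
        linear_combination -A 0 1 * T + B 0 1 * hA
    push Not at h01
    have h10 : A 1 0 ≠ 0 := fun h10 => hA0 (by ext i j; fin_cases i <;> fin_cases j <;> simpa)
    refine ⟨![A 1 1, -A 1 0], ![-A 1 0, A 0 0], fun e => h10 (neg_eq_zero.1 (congrFun e 1)),
      fun e => h10 (neg_eq_zero.1 (congrFun e 0)), ?_, ?_, ?_⟩
    · funext i; fin_cases i <;> simp [mulVec, dotProduct, Fin.sum_univ_two] <;> first | linear_combination hA | ring
    · funext i; fin_cases i <;> simp [vecMul, dotProduct, Fin.sum_univ_two] <;> first | linear_combination hA | ring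
    · simp [mulVec, dotProduct, Fin.sum_univ_two]
      linear_combination -A 1 0 * T + B 1 0 * hA
  by_cases hBc : B *ᵥ c = 0
  · exact Or.inl ⟨c, hc, hAc, hBc⟩
  refine Or.inr ⟨r, hr, hrA, funext fun j => ?_⟩
  obtain ⟨p, hp⟩ := Function.ne_iff.1 hBc
  refine (mul_eq_zero.1 ?_).resolve_right hp
  simp only [mulVec, dotProduct, Fin.sum_univ_two] at hrc
  fin_cases p <;> fin_cases j <;> simp [mulVec, vecMul, dotProduct, Fin.sum_univ_two, -mul_eq_zero] <;>
    first
      | linear_combination B 0 0 * hrc + r 1 * c 1 * hB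
      | linear_combination B 0 0 * hrc - r 1 * c 1 * hB
      | linear_combination B 0 1 * hrc + r 1 * c 0 * hB
      | linear_combination B 0 1 * hrc - r 1 * c 0 * hB
      | linear_combination B 1 0 * hrc + r 0 * c 1 * hB
      | linear_combination B 1 0 * hrc - r 0 * c 1 * hB
      | linear_combination B 1 1 * hrc + r 0 * c 0 * hB
      | linear_combination B 1 1 * hrc - r 0 * c 0 * hB

theorem exists_gl_row {r : Fin 2 → k} (hr : r ≠ 0) : ∃ g : GL (Fin 2) k, g.val 0 = r := by
  by_cases h0 : r 0 ≠ 0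
  · refine ⟨Matrix.GeneralLinearGroup.mkOfDetNeZero !![r 0, r 1; 0, 1] (by simp [det_fin_two, h0]), ?_⟩
    funext j; fin_cases j <;> rfl
  · push Not at h0
    have h1 : r 1 ≠ 0 := fun h1 => hr (by funext j; fin_cases j <;> simpa)
    refine ⟨Matrix.GeneralLinearGroup.mkOfDetNeZero !![r 0, r 1; 1, 0] (by simp [det_fin_two, h1]), ?_⟩
    funext j; fin_cases j <;> rfl

theorem exists_gl_col {c : Fin 2 → k} (hc : c ≠ 0) : ∃ g : GL (Fin 2) k, ∀ j, g.val j 1 = c j := by
  by_cases h1 : c 1 ≠ 0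
  · exact ⟨Matrix.GeneralLinearGroup.mkOfDetNeZero !![1, c 0; 0, c 1] (by simp [det_fin_two, h1]),
      fun j => by fin_cases j <;> rfl⟩
  · push Not at h1
    have h0 : c 0 ≠ 0 := fun h0 => hc (by funext j; fin_cases j <;> simpa)
    exact ⟨Matrix.GeneralLinearGroup.mkOfDetNeZero !![0, c 0; 1, c 1] (by simp [det_fin_two, h0]),
      fun j => by fin_cases j <;> rfl⟩

theorem smul_of_orth {a m : Fin 3 → k} {p : Fin 3} (hp : a p ≠ 0)
    (h1 : a p * m (p + 1) = a (p + 1) * m p) (h2 : a p * m (p + 2) = a (p + 2) * m p) :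
    m = (m p / a p) • a := by
  funext j
  simp only [Pi.smul_apply, smul_eq_mul, div_mul_eq_mul_div]
  rw [eq_div_iff hp]
  obtain rfl | rfl | rfl : j = p ∨ j = p + 1 ∨ j = p + 2 := (show ∀ j p : Fin 3, j = p ∨ j = p + 1 ∨ j = p + 2 by decide) j p
  · ring
  · linear_combination h1
  · linear_combination h2

theorem lin_smul (c : k) (a : Fin 3 → k) : lin (c • a) = C c * lin a := by
  simp [lin, Fin.sum_univ_three, smul_eq_C_mul]; ring

theorem lin_add (a b : Fin 3 → k) : lin (a + b) = lin a + lin b := by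
  simp [lin, Fin.sum_univ_three, add_smul]; ring

theorem exists_pair_zero {a : Fin 3 → k} (ha : a ≠ 0) (m : Fin 2 → Fin 2 → Fin 3 → k)
    (hm : ∀ u, a ⬝ᵥ u = 0 → (Matrix.of fun i j => m i j ⬝ᵥ u).det = 0) :
    ∃ r c : Fin 2 → k, r ≠ 0 ∧ c ≠ 0 ∧ ∑ i, ∑ j, (r i * c j) • m i j = 0 := by
  obtain ⟨p, hp⟩ := Function.ne_iff.1 ha
  let u1 : Fin 3 → k := a p • Pi.single (p + 1) 1 - a (p + 1) • Pi.single p 1
  let u2 : Fin 3 → k := a p • Pi.single (p + 2) 1 - a (p + 2) • Pi.single p 1
  have hu1 : a ⬝ᵥ u1 = 0 := by simp [u1, dotProduct_sub]; ring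
  have hu2 : a ⬝ᵥ u2 = 0 := by simp [u2, dotProduct_sub]; ring
  have hsum : a ⬝ᵥ (u1 + u2) = 0 := by rw [dotProduct_add, hu1, hu2, add_zero]
  have orth : ∀ n : Fin 3 → k, n ⬝ᵥ u1 = 0 → n ⬝ᵥ u2 = 0 → n = (n p / a p) • a := fun n h1 h2 => by
    refine smul_of_orth hp ?_ ?_
    · simp [u1, dotProduct_sub] at h1; linear_combination h1
    · simp [u2, dotProduct_sub] at h2; linear_combination h2
  rcases common_kernel (A := Matrix.of fun i j => m i j ⬝ᵥ u1) (B := Matrix.of fun i j => m i j ⬝ᵥ u2)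
      (hm u1 hu1) (hm u2 hu2)
      (by
        rw [show (Matrix.of fun i j => m i j ⬝ᵥ u1) + (Matrix.of fun i j => m i j ⬝ᵥ u2) =
          Matrix.of fun i j => m i j ⬝ᵥ (u1 + u2) from by ext i j; simp [dotProduct_add]]
        exact hm _ hsum) with ⟨c, hc, h1, h2⟩ | ⟨r, hr, h1, h2⟩
  · let n : Fin 2 → Fin 3 → k := fun i => ∑ j, c j • m i j
    have hn : ∀ i, n i = (n i p / a p) • a := fun i => by
      refine orth _ ?_ ?_
      · have := congrFun h1 i
        simp [mulVec, dotProduct, Fin.sum_univ_two, Fin.sum_univ_three, n] at this ⊢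
        linear_combination this
      · have := congrFun h2 i
        simp [mulVec, dotProduct, Fin.sum_univ_two, Fin.sum_univ_three, n] at this ⊢
        linear_combination this
    obtain ⟨r, hr, hrw⟩ : ∃ r : Fin 2 → k, r ≠ 0 ∧ r 0 * (n 0 p / a p) + r 1 * (n 1 p / a p) = 0 := by
      by_cases h : n 1 p / a p = 0
      · exact ⟨![0, 1], fun e => one_ne_zero (congrFun e 1), by simp [h]⟩
      · exact ⟨![n 1 p / a p, -(n 0 p / a p)], fun e => h (congrFun e 0), by simp; ring⟩
    refine ⟨r, c, hr, hc, ?_⟩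
    calc ∑ i, ∑ j, (r i * c j) • m i j = r 0 • n 0 + r 1 • n 1 := by
          simp [n, Fin.sum_univ_two, mul_smul]
      _ = 0 := by rw [hn 0, hn 1, smul_smul, smul_smul, ← add_smul, hrw, zero_smul]
  · let n : Fin 2 → Fin 3 → k := fun j => ∑ i, r i • m i j
    have hn : ∀ i, n i = (n i p / a p) • a := fun i => by
      refine orth _ ?_ ?_
      · have := congrFun h1 i
        simp [vecMul, dotProduct, Fin.sum_univ_two, Fin.sum_univ_three, n] at this ⊢
        linear_combination this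
      · have := congrFun h2 i
        simp [vecMul, dotProduct, Fin.sum_univ_two, Fin.sum_univ_three, n] at this ⊢
        linear_combination this
    obtain ⟨c, hc, hcw⟩ : ∃ c : Fin 2 → k, c ≠ 0 ∧ c 0 * (n 0 p / a p) + c 1 * (n 1 p / a p) = 0 := by
      by_cases h : n 1 p / a p = 0
      · exact ⟨![0, 1], fun e => one_ne_zero (congrFun e 1), by simp [h]⟩
      · exact ⟨![n 1 p / a p, -(n 0 p / a p)], fun e => h (congrFun e 0), by simp; ring⟩
    refine ⟨r, c, hr, hc, ?_⟩
    calc ∑ i, ∑ j, (r i * c j) • m i j = c 0 • n 0 + c 1 • n 1 := by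
          simp only [n, Fin.sum_univ_two]; module
      _ = 0 := by rw [hn 0, hn 1, smul_smul, smul_smul, ← add_smul, hcw, zero_smul]

end Groth.Agent.Conic
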